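import Cfsg.Agent.H281.Reg.SimpleOver
import Cfsg.Agent.H525.L2.Degrees
import Cfsg.Agent.CharactersDeep.ExtUnique
import Cfsg.Agent.S4459
import Cfsg.Agent.S4493
import Cfsg.Agent.S0187

/-!
# Odd degrees over a central character: small quotients (helper281, for S4919)

`π : Q → H` surjective with central kernel, `l` a linear character of the kernel, all irreducible characters of `Q`
over `l` of odd degree.
-/

set_option autoImplicit false
set_option linter.unusedSectionVars false

namespace Cfsg.Agent.H281.Reg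

open Cfsg Cfsg.Agent.Characters.Core Cfsg.Agent.H525.L2

universe u v

variable {Q : Type u} [Group Q] [Finite Q] {H : Type v} [Group H] [Finite H] {π : Q →* H}
  (l : π.ker →* ℂˣ)

/-- All degrees over `l` are odd. -/
def AO : Prop :=
  ∀ β : IrrCharacter Q, Over π l (β : Q → ℂ) → Odd (charDegree (β : Q → ℂ))

variable {l}

/-- A linear character over `l` multiplies the characters of `H` into characters over `l`. -/
theorem exists_mul (hs : Function.Surjective π) {lam : Q →* ℂˣ} (hlam : ∀ z : π.ker, lam z = l z)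
    (η : IrrCharacter H) : ∃ β : IrrCharacter Q, Over π l (β : Q → ℂ) ∧
      charDegree (β : Q → ℂ) = charDegree (η : H → ℂ) := by
  have hirr := Cfsg.Agent.CharactersDeep.ExtUnique.isIrr_mul_hom (isIrr_comp π hs η.2) lam
  have ho : Over π l (fun g => ((η : H → ℂ) ∘ π) g * lam g) := by
    intro g z
    have h1 : π (g * z) = π g := by rw [map_mul, (MonoidHom.mem_ker.1 z.2), mul_one]
    show (η : H → ℂ) (π (g * z)) * lam (g * z) = (η : H → ℂ) (π g) * lam g * l z
    rw [h1, map_mul, hlam, Units.val_mul, mul_assoc]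
  have hdeg : charDegree (fun g => ((η : H → ℂ) ∘ π) g * lam g) = charDegree (η : H → ℂ) := by
    have h1 : (fun g => ((η : H → ℂ) ∘ π) g * (lam g : ℂ)) 1 = (η : H → ℂ) 1 := by
      show (η : H → ℂ) (π 1) * (lam 1 : ℂ) = _
      rw [map_one, map_one, Units.val_one, mul_one]
    unfold charDegree
    rw [h1]
  exact ⟨⟨_, hirr⟩, ho, hdeg⟩

theorem exists_lam (hc : π.ker ≤ Subgroup.center Q) {β : IrrCharacter Q} (hβ : Over π l (β : Q → ℂ))
    (h1 : charDegree (β : Q → ℂ) = 1) : ∃ lam : Q →* ℂˣ, ∀ z : π.ker, lam z = l z :=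
  exists_linear hc β.2 hβ (deg_spec β.2).1 β.2 hβ (deg_spec β.2).1
    (by rw [h1]; exact Nat.coprime_one_left 1)

/-- If all characters over `l` are linear then `H` is commutative. -/
theorem comm_of_linear (hs : Function.Surjective π) (hc : π.ker ≤ Subgroup.center Q)
    (h : ∀ β : IrrCharacter Q, Over π l (β : Q → ℂ) → charDegree (β : Q → ℂ) = 1) :
    ∀ a b : H, a * b = b * a := by
  obtain ⟨β0, hβ0⟩ := exists_over l hs hc
  obtain ⟨lam, hlam⟩ := exists_lam hc hβ0 (h β0 hβ0)
  refine Cfsg.Agent.S0187.result.2 fun η => ?_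
  obtain ⟨β, hβ, hd⟩ := exists_mul hs hlam η
  rw [(deg_spec η.2).1, ← hd, h β hβ, Nat.cast_one]

/-- If `l` extends to `Q` and `H` is solvable then `H` has an abelian normal Sylow 2-subgroup. -/
theorem sylow_of_linear (hs : Function.Surjective π) (hc : π.ker ≤ Subgroup.center Q) (hao : AO l)
    (hsolv : Group.IsSolvable H) {β : IrrCharacter Q} (hβ : Over π l (β : Q → ℂ))
    (h1 : charDegree (β : Q → ℂ) = 1) :
    ∃ P : Subgroup H, P.Normal ∧ (∀ x ∈ P, ∀ y ∈ P, x * y = y * x) ∧ IsPGroup 2 P ∧
      ¬ 2 ∣ P.index := by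
  obtain ⟨lam, hlam⟩ := exists_lam hc hβ h1
  refine (Cfsg.Agent.S4493.result hsolv 2 Nat.prime_two).2 fun η => ?_
  obtain ⟨β, hβ, hd⟩ := exists_mul hs hlam η
  rw [← hd]
  exact fun h => Nat.not_even_iff_odd.2 (hao β hβ) (even_iff_two_dvd.2 h)

/-- `|H| < 25` and `9` does not divide `|H|`: some character over `l` is linear. -/
theorem exists_linear_of_small (hs : Function.Surjective π) (hc : π.ker ≤ Subgroup.center Q)
    (hao : AO l) (hH : Nat.card H < 25) (h9 : ¬ 9 ∣ Nat.card H) :
    ∃ β : IrrCharacter Q, Over π l (β : Q → ℂ) ∧ charDegree (β : Q → ℂ) = 1 := by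
  by_contra hcon
  push Not at hcon
  apply h9
  refine pow_dvd_card (m := 3) l hs hc fun β hβ => ?_
  have h1 := hcon β hβ
  have h2 := hao β hβ
  have h3 := deg_sq_le l hs hc β hβ
  have h4 : charDegree (β : Q → ℂ) < 5 := by nlinarith
  rw [Nat.odd_iff] at h2
  have h5 : charDegree (β : Q → ℂ) = 3 := by omega
  rw [h5]

/-- The case of a normal cyclic subgroup of index two. -/
theorem linear_of_cyclic (hc : π.ker ≤ Subgroup.center Q) (hs : Function.Surjective π)
    (hao : AO l) (C : Subgroup H) [IsCyclic C] (hC : C.index = 2)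
    (β : IrrCharacter Q) (hβ : Over π l (β : Q → ℂ)) : charDegree (β : Q → ℂ) = 1 := by
  classical
  by_cases hcomm : ∀ a b : Q, a * b = b * a
  · have h1 := Cfsg.Agent.S0187.result.1 hcomm β
    rw [(deg_spec β.2).1] at h1
    exact_mod_cast h1
  · push Not at hcomm
    let A : Subgroup Q := C.comap π
    have hAi : A.index = 2 := by
      rw [← hC]
      exact Subgroup.index_comap_of_surjective C hs
    have hAn : A.Normal := Subgroup.normal_of_index_eq_two hAi
    let f : A →* C := (π.comp A.subtype).codRestrict C (fun a => a.2)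
    have hfk : f.ker ≤ Subgroup.center A := by
      intro a ha
      rw [Subgroup.mem_center_iff]
      intro b
      have h1 : π (a : Q) = 1 := congrArg Subtype.val (MonoidHom.mem_ker.1 ha)
      apply Subtype.ext
      exact Subgroup.mem_center_iff.1 (hc (MonoidHom.mem_ker.2 h1)) (b : Q)
    have hab : ∀ a ∈ A, ∀ b ∈ A, a * b = b * a := by
      intro a ha b hb
      have h1 := commutative_of_cyclic_center_quotient f hfk (⟨a, ha⟩ : A) ⟨b, hb⟩
      exact congrArg Subtype.val h1
    have h2 := ((Cfsg.Agent.S4459.result hcomm 2 Nat.prime_two).2 (Or.inl ⟨A, hAn, hab, hAi⟩)).1 β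
    rcases h2 with h2 | h2
    · exact h2
    · exfalso
      have h3 := hao β hβ
      rw [h2] at h3
      exact Nat.not_even_iff_odd.2 h3 ⟨1, rfl⟩

theorem relP_of_ao (hc : π.ker ≤ Subgroup.center Q) (hao : AO l) :
    Cfsg.Agent.H586.GW.RelP 2 π.ker.subtype (Cfsg.Agent.H672.lf l) :=
  Cfsg.Agent.H692.Rel.rel_of_allOdd hc fun χ hχ hov => hao ⟨χ, hχ⟩ hov

open Cfsg.Agent.H692.Rel in
/-- No normal subgroup of `H` is nonabelian simple. -/
theorem not_simple (hrows : RowsHyp.{u}) (him : IM2Hyp.{u}) (hs : Function.Surjective π)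
    (hc : π.ker ≤ Subgroup.center Q) (hao : AO l) (L : Subgroup H) [hL : L.Normal]
    {S : Type*} [Group S] [IsSimpleGroup S] (hna : ¬ IsMulCommutative S) (e : L ≃* S) : False := by
  let f : L.comap π →* L := (π.comp (L.comap π).subtype).codRestrict L (fun a => a.2)
  have hf : Function.Surjective f := by
    rintro ⟨y, hy⟩
    obtain ⟨x, rfl⟩ := hs y
    exact ⟨⟨x, hy⟩, rfl⟩
  have hZL : π.ker ≤ L.comap π := by
    intro z hz
    show π z ∈ L
    rw [MonoidHom.mem_ker.1 hz]
    exact one_mem L
  refine false_normal hrows him hc l (relP_of_ao hc hao) (L.comap π) hZL hna (e.toMonoidHom.comp f)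
    (e.surjective.comp hf) ?_
  ext x
  constructor
  · intro hx
    have h1 : e (f x) = 1 := hx
    have h2 : f x = 1 := (map_eq_one_iff e e.injective).1 h1
    exact congrArg Subtype.val h2
  · intro hx
    have h1 : π (x : Q) = 1 := hx
    have h2 : f x = 1 := Subtype.ext h1
    show e (f x) = 1
    rw [h2, map_one]

end Cfsg.Agent.H281.Reg
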