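import Cfsg.Agent.H281.Reg.OddMain
import Cfsg.Agent.H692.Rel.Rows
import Cfsg.Agent.H692.Rel.IM2

/-!
# `FactOdd` from the classification (helper281, for S4919)

`factOdd_cls hc` with `hc := fun S _ _ _ => Cfsg.Agent.S0000.result`.
-/

set_option autoImplicit false

namespace Cfsg.Agent.H281.Reg

open Cfsg

universe u

theorem factOdd_cls (hc : ∀ (S : Type u) [Group S] [Finite S] [IsSimpleGroup S], IsKnownSimple' S) :
    Cfsg.Agent.H670.Reg.FactOdd.{u} :=
  factOdd_of (Cfsg.Agent.H692.Rel.rows_of hc) (Cfsg.Agent.H692.Rel.im2_of hc)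

end Cfsg.Agent.H281.Reg
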