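import Mathlib
import Cfsg.Agent.S0266
import Cfsg.Agent.S0251
import Cfsg.Agent.S0307
import Cfsg.Agent.ClassicalGeometry.PSL2Basic

/-!
# Facts on small groups (helper281, for S4919)
-/

set_option autoImplicit false
set_option linter.unusedSectionVars false

namespace Cfsg.Agent.H281.Reg

open Matrix

theorem not_comm_of_not_prime {S : Type*} [Group S] [Finite S] [IsSimpleGroup S]
    (h : ¬ (Nat.card S).Prime) : ¬ IsMulCommutative S := by
  intro hc
  apply h
  let _ : CommGroup S := { (inferInstance : Group S) with mul_comm := hc.is_comm.comm }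
  exact IsSimpleGroup.prime_card

theorem card_A5 : Nat.card (alternatingGroup (Fin 5)) = 60 := by
  rw [nat_card_alternatingGroup, Nat.card_eq_fintype_card, Fintype.card_fin]
  decide

theorem simple_A5 : IsSimpleGroup (alternatingGroup (Fin 5)) :=
  alternatingGroup.isSimpleGroup (by simp)

theorem not_comm_A5 : ¬ IsMulCommutative (alternatingGroup (Fin 5)) := by
  have h5 := simple_A5
  exact not_comm_of_not_prime (by rw [card_A5]; norm_num)

theorem card_A4 : Nat.card (alternatingGroup (Fin 4)) = 12 := by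
  rw [nat_card_alternatingGroup, Nat.card_eq_fintype_card, Fintype.card_fin]
  decide

theorem not_comm_A4 : ¬ ∀ a b : alternatingGroup (Fin 4), a * b = b * a := by
  decide

theorem card_S4 : Nat.card (Equiv.Perm (Fin 4)) = 24 := by
  rw [Nat.card_eq_fintype_card, Fintype.card_perm, Fintype.card_fin]
  decide

/-- `Sym(4)` has no abelian normal subgroup of odd index. -/
theorem not_sylow_S4 {H : Type*} [Group H] [Finite H] (e : H ≃* Equiv.Perm (Fin 4)) (P : Subgroup H)
    (hP : P.Normal) (hab : ∀ x ∈ P, ∀ y ∈ P, x * y = y * x) (hi : ¬ 2 ∣ P.index) : False := by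
  have key : ∀ x : H, x * x = 1 → x ∈ P := by
    intro x hx
    have h1 := P.pow_index_mem x
    obtain ⟨k, hk⟩ : ∃ k, P.index = 2 * k + 1 := ⟨P.index / 2, by omega⟩
    rw [hk, pow_succ, pow_mul, pow_two, hx, one_pow, one_mul] at h1
    exact h1
  have h1 : ∀ a b : Equiv.Perm (Fin 4), a * a = 1 → b * b = 1 → a * b = b * a := by
    intro a b ha hb
    have h2 := hab (e.symm a) (key _ (by rw [← map_mul, ha, map_one])) (e.symm b)
      (key _ (by rw [← map_mul, hb, map_one]))
    rw [← map_mul, ← map_mul] at h2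
    exact e.symm.injective h2
  have h2 := h1 (Equiv.swap 0 1) (Equiv.swap 1 2) (by decide) (by decide)
  revert h2
  decide

/-- `PGL(2, 3) = Sym(4)`. -/
theorem pgl_three {K : Type*} [Field K] [Fintype K] (h3 : Fintype.card K = 3) :
    Nonempty (ProjGenLinGroup (Fin 2) K ≃* Equiv.Perm (Fin 4)) := by
  classical
  have hk : Nat.card K = 3 := by rw [Nat.card_eq_fintype_card, h3]
  have hP : Nat.card (Projectivization K (Fin 2 → K)) = 4 := by
    rw [Projectivization.card_of_finrank_two K _ (by simp), hk]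
  have : Finite (Projectivization K (Fin 2 → K)) := Nat.finite_of_card_ne_zero (by rw [hP]; norm_num)
  have := Fintype.ofFinite (Projectivization K (Fin 2 → K))
  let f : ProjGenLinGroup (Fin 2) K →* Equiv.Perm (Projectivization K (Fin 2 → K)) :=
    MulAction.toPermHom _ _
  have hf : Function.Injective f := by
    rw [injective_iff_map_eq_one]
    intro g hg
    have h1 : ∀ a : Projectivization K (Fin 2 → K), g • a = a := by
      intro a
      exact congrArg (fun s : Equiv.Perm _ => s a) hg
    have h2 : 2 < Fintype.card (Projectivization K (Fin 2 → K)) := by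
      rw [← Nat.card_eq_fintype_card, hP]; norm_num
    obtain ⟨a, b, c, hab, hac, hbc⟩ := Fintype.two_lt_card_iff.1 h2
    exact Cfsg.Agent.S0266.result.2 g a b c hab hac hbc (h1 a) (h1 b) (h1 c)
  have hcard : Nat.card (ProjGenLinGroup (Fin 2) K) =
      Nat.card (Equiv.Perm (Projectivization K (Fin 2 → K))) := by
    rw [Cfsg.Agent.ClassicalGeometry.PSL2Basic.card_PGL2, h3,
      Nat.card_eq_fintype_card (α := Equiv.Perm _), Fintype.card_perm, ← Nat.card_eq_fintype_card, hP]
    decide
  have : Finite (ProjGenLinGroup (Fin 2) K) := Finite.of_injective f hf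
  have hb : Function.Bijective f := (Nat.bijective_iff_injective_and_card f).2 ⟨hf, hcard⟩
  let e1 : Projectivization K (Fin 2 → K) ≃ Fin 4 :=
    Fintype.equivFinOfCardEq (by rw [← Nat.card_eq_fintype_card, hP])
  exact ⟨(MulEquiv.ofBijective f hb).trans (Equiv.permCongrHom e1)⟩

theorem psl_simple {K : Type*} [Field K] [Fintype K] (h4 : 4 ≤ Fintype.card K) :
    IsSimpleGroup (ProjectiveSpecialLinearGroup (Fin 2) K) :=
  Matrix.ProjectiveSpecialLinearGroup.rank_two_simple (by rw [Nat.card_eq_fintype_card]; omega)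

theorem psl_not_comm {K : Type*} [Field K] [Fintype K] (h5 : 5 ≤ Fintype.card K)
    (hodd : Odd (Fintype.card K)) : ¬ IsMulCommutative (ProjectiveSpecialLinearGroup (Fin 2) K) := by
  have hs := psl_simple (K := K) (by omega)
  apply not_comm_of_not_prime
  have h1 := Cfsg.Agent.ClassicalGeometry.PSL2Basic.card_PSL2_odd K hodd
  set q := Fintype.card K
  obtain ⟨k, hk⟩ := hodd
  have h2 : q ^ 2 - 1 = 4 * (k * (k + 1)) := by
    rw [hk]
    have : (2 * k + 1) ^ 2 = 4 * (k * (k + 1)) + 1 := by ring
    omega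
  have h3 : Nat.card (ProjectiveSpecialLinearGroup (Fin 2) K) = q * (2 * (k * (k + 1))) := by
    apply Nat.eq_of_mul_eq_mul_right (show 0 < 2 by norm_num)
    rw [h1, h2]
    ring
  rw [h3]
  refine Nat.not_prime_mul (by omega) ?_
  omega

/-- `PGL(2, K)` has a normal subgroup isomorphic to `PSL(2, K)`. -/
theorem exists_psl_normal {K : Type*} [Field K] [Fintype K] {H : Type*} [Group H]
    (e : H ≃* ProjGenLinGroup (Fin 2) K) :
    ∃ L : Subgroup H, L.Normal ∧ Nonempty (L ≃* ProjectiveSpecialLinearGroup (Fin 2) K) := by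
  obtain ⟨g, -, hg⟩ := Cfsg.Agent.S0307.result (F := K) rfl 2 (by norm_num)
  let f : ProjectiveSpecialLinearGroup (Fin 2) K →* H :=
    e.symm.toMonoidHom.comp ProjectiveSpecialLinearGroup.toPGL
  have hf : Function.Injective f :=
    e.symm.injective.comp Matrix.ProjectiveSpecialLinearGroup.toPGL_injective
  refine ⟨f.range, ?_, ⟨(MonoidHom.ofInjective hf).symm⟩⟩
  have h1 : f.range = (g.comp e.toMonoidHom).ker := by
    ext x
    rw [MonoidHom.mem_ker]
    constructor
    · rintro ⟨y, rfl⟩
      show g (e (e.symm _)) = 1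
      rw [e.apply_symm_apply, ← MonoidHom.mem_ker, hg]
      exact ⟨y, rfl⟩
    · intro h
      have h2 : e x ∈ g.ker := h
      rw [hg] at h2
      obtain ⟨y, hy⟩ := h2
      exact ⟨y, by show e.symm (ProjectiveSpecialLinearGroup.toPGL y) = x; rw [hy, e.symm_apply_apply]⟩
  rw [h1]
  infer_instance

/-- Finite dihedral groups: the rotations. -/
theorem dihedral_cyclic {H : Type*} [Group H] [Finite H] {k : ℕ} (e : H ≃* DihedralGroup k) :
    Nat.card H = 2 * k ∧ ∃ C : Subgroup H, IsCyclic C ∧ C.index = 2 := by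
  have hfin : Finite (DihedralGroup k) := Finite.of_equiv _ e.toEquiv
  have hk : k ≠ 0 := by
    rintro rfl
    exact not_finite (DihedralGroup 0)
  have : NeZero k := ⟨hk⟩
  have hcard : Nat.card H = 2 * k := by
    rw [Nat.card_congr e.toEquiv, DihedralGroup.nat_card]
  refine ⟨hcard, Subgroup.zpowers (e.symm (DihedralGroup.r 1)), inferInstance, ?_⟩
  have h1 := (Subgroup.zpowers (e.symm (DihedralGroup.r 1))).card_mul_index
  rw [Nat.card_zpowers, MulEquiv.orderOf_eq, DihedralGroup.orderOf_r_one, hcard, mul_comm 2 k] at h1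
  exact Nat.eq_of_mul_eq_mul_left (Nat.pos_of_ne_zero hk) h1

/-- Commutative dihedral groups. -/
theorem dihedral_comm {H : Type*} [Group H] [Finite H] {k : ℕ} (e : H ≃* DihedralGroup k)
    (hc : ∀ a b : H, a * b = b * a) : k ∣ 2 := by
  have h1 : ∀ a b : DihedralGroup k, a * b = b * a := by
    intro a b
    apply e.symm.injective
    rw [map_mul, map_mul, hc]
  have h2 := h1 (DihedralGroup.sr 0) (DihedralGroup.r 1)
  rw [DihedralGroup.sr_mul_r, DihedralGroup.r_mul_sr] at h2
  have h3 : (0 + 1 : ZMod k) = 0 - 1 := by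
    injection h2
  have h4 : ((2 : ℕ) : ZMod k) = 0 := by
    push_cast
    linear_combination h3
  exact (ZMod.natCast_eq_zero_iff 2 k).1 h4

end Cfsg.Agent.H281.Reg
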