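import Cfsg.Agent.H281.Reg.Abs
import Cfsg.Agent.H281.Reg.Small
import Cfsg.Agent.H853.Fx.PslC
import Cfsg.Agent.H436.TTPsl2

/-!
# Odd degrees over a central character: subgroups of `PSL(2, q)` of odd index (helper281, for S4919)
-/

set_option autoImplicit false
set_option linter.unusedSectionVars false

namespace Cfsg.Agent.H281.Reg

open Cfsg Cfsg.Agent.Characters.Core Cfsg.Agent.H525.L2 Matrix
open Cfsg.Agent.H692.Rel (RowsHyp IM2Hyp)

universe u v

/-- A prime other than two dividing `m * n`, `m` dividing `c * 2 ^ k`. -/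
theorem dvd_of_four_mul {p a b : ℕ} (hp : p.Prime) (hp2 : p ≠ 2) (h : p ∣ 4 * a) (hb : a ∣ b) : p ∣ b := by
  rcases (Nat.Prime.dvd_mul hp).1 h with h1 | h1
  · exfalso
    have h2 : p ∣ 2 ^ 2 := h1
    exact hp2 ((Nat.prime_dvd_prime_iff_eq hp Nat.prime_two).1 (hp.dvd_of_dvd_pow h2))
  · exact h1.trans hb

theorem key (hrows : RowsHyp.{u}) (him : IM2Hyp.{u}) {F : Type} [Field F] [Fintype F]
    (hodd : Odd (Fintype.card F)) (h7 : 7 ≤ Fintype.card F)
    (Hs : Subgroup (ProjectiveSpecialLinearGroup (Fin 2) F)) (hi : Odd Hs.index)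
    {H : Type v} [Group H] [Finite H] (e : H ≃* Hs) {Q : Type u} [Group Q] [Finite Q] {π : Q →* H}
    {l : π.ker →* ℂˣ} (hs : Function.Surjective π) (hc : π.ker ≤ Subgroup.center Q) (hao : AO l) :
    ∃ β : IrrCharacter Q, Over π l (β : Q → ℂ) ∧ ∀ p : ℕ, p.Prime → p ≠ 2 →
      p ∣ Nat.card (ProjectiveSpecialLinearGroup (Fin 2) F) →
        p ∣ Hs.index * charDegree (β : Q → ℂ) := by
  obtain ⟨p, hchar⟩ := CharP.exists F
  obtain ⟨n, hp, hq⟩ := FiniteField.card F p
  have hfp : Fact p.Prime := ⟨hp⟩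
  have hS := Cfsg.Agent.ClassicalGeometry.PSL2Basic.card_PSL2_odd F hodd
  have hHc : Nat.card H = Nat.card Hs := Nat.card_congr e.toEquiv
  have hmul := Hs.card_mul_index
  set q := Fintype.card F with hqd
  set N := Nat.card (ProjectiveSpecialLinearGroup (Fin 2) F) with hN
  obtain ⟨m, hm⟩ := hodd
  have hq2 : q ^ 2 - 1 = 4 * (m * (m + 1)) := by
    rw [hm]
    have : (2 * m + 1) ^ 2 = 4 * (m * (m + 1)) + 1 := by ring
    omega
  have hNq : N = q * (2 * (m * (m + 1))) := by
    apply Nat.eq_of_mul_eq_mul_right (show 0 < 2 by norm_num)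
    rw [hS, hq2]
    ring
  have hN0 : 0 < N := Nat.card_pos
  have h4N : 4 ∣ N := by
    rw [hNq]
    obtain ⟨j, hj⟩ := Nat.even_mul_succ_self m
    rw [hj]
    exact ⟨q * j, by ring⟩
  have h4H : 4 ∣ Nat.card Hs := by
    have h1 : Nat.Coprime 4 Hs.index := by
      have : Nat.Coprime (2 ^ 2) Hs.index := Nat.Coprime.pow_left 2 (Nat.coprime_two_left.2 hi)
      exact this
    exact h1.dvd_of_dvd_mul_right (by rw [hmul]; exact h4N)
  have hgcd : Nat.gcd 2 (q - 1) = 2 := Nat.gcd_eq_left (by omega)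
  have hqo : q % 2 = 1 := by omega
  have hio : Hs.index % 2 = 1 := Nat.odd_iff.1 hi
  -- the case of the alternating group of degree four
  have hA4 : Nonempty (Hs ≃* alternatingGroup (Fin 4)) → ∃ β : IrrCharacter Q,
      Over π l (β : Q → ℂ) ∧ ∀ p : ℕ, p.Prime → p ≠ 2 → p ∣ N →
        p ∣ Hs.index * charDegree (β : Q → ℂ) := by
    rintro ⟨e4⟩
    have hc4 : Nat.card Hs = 12 := by rw [Nat.card_congr e4.toEquiv, card_A4]
    have hex : ∃ β : IrrCharacter Q, Over π l (β : Q → ℂ) ∧ charDegree (β : Q → ℂ) ≠ 1 := by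
      by_contra hcon
      push Not at hcon
      have h1 := comm_of_linear hs hc hcon
      apply not_comm_A4
      intro a b
      apply (e.trans e4).symm.injective
      rw [map_mul, map_mul, h1]
    obtain ⟨β, hβ, hβ1⟩ := hex
    refine ⟨β, hβ, fun r hr hr2 hrN => ?_⟩
    have h2 := hao β hβ
    have h3 := deg_sq_le l hs hc β hβ
    rw [hHc, hc4] at h3
    have h4 : charDegree (β : Q → ℂ) < 4 := by nlinarith
    rw [Nat.odd_iff] at h2
    have h5 : charDegree (β : Q → ℂ) = 3 := by omega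
    rw [h5]
    rw [← hmul, hc4] at hrN
    exact dvd_of_four_mul hr hr2 (a := Hs.index * 3) (by
      have : 4 * (Hs.index * 3) = 12 * Hs.index := by ring
      rw [this]; exact hrN) (dvd_refl _)
  -- the case of the symmetric group of degree four
  have hS4 : Nonempty (Hs ≃* Equiv.Perm (Fin 4)) → False := by
    rintro ⟨e4⟩
    have hc4 : Nat.card H = 24 := by rw [hHc, Nat.card_congr e4.toEquiv, card_S4]
    obtain ⟨β, hβ, hβ1⟩ := exists_linear_of_small hs hc hao (by omega) (by rw [hc4]; norm_num)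
    have hsolv : Group.IsSolvable H :=
      Cfsg.Agent.S0144.result 2 3 3 1 Nat.prime_two Nat.prime_three (by rw [hc4]; norm_num)
    obtain ⟨P, hP, hab, -, hPi⟩ := sylow_of_linear hs hc hao hsolv hβ hβ1
    exact not_sylow_S4 (e.trans e4) P hP hab hPi
  rcases Cfsg.Agent.H853.Fx.dickson hqd.symm p Hs with ⟨k, hk, hk'⟩ | ⟨-, P, hP⟩ | h | h | ⟨⟨e5⟩⟩ |
    ⟨K, _, _, j, hKj, hK⟩
  · -- cyclic and dihedral groups
    rw [hgcd] at hk
    rcases hk' with ⟨-, hk'⟩ | ⟨⟨ed⟩⟩
    · exfalso
      have h2 : ∃ j, N = k * (2 * j) := by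
        rcases hk with ⟨j, hj⟩ | ⟨j, hj⟩
        · have h3 : (q + 1) / 2 = m + 1 := by omega
          rw [h3] at hj
          exact ⟨q * m * j, by rw [hNq, hj]; ring⟩
        · have h3 : (q - 1) / 2 = m := by omega
          rw [h3] at hj
          refine ⟨q * (m + 1) * j, ?_⟩
          rw [hNq]
          nth_rewrite 1 [hj]
          ring
      obtain ⟨j, hj⟩ := h2
      rw [← hmul, hk'] at hj
      have hk0 : 0 < k := by
        rw [← hk']
        exact Nat.card_pos
      have := Nat.eq_of_mul_eq_mul_left hk0 hj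
      omega
    · obtain ⟨hcd, C, hCc, hCi⟩ := dihedral_cyclic (e.trans ed)
      have hlin : ∀ β : IrrCharacter Q, Over π l (β : Q → ℂ) → charDegree (β : Q → ℂ) = 1 :=
        fun β hβ => linear_of_cyclic hc hs hao C hCi β hβ
      have hcomm := comm_of_linear hs hc hlin
      have hk2 := dihedral_comm (e.trans ed) hcomm
      have hc4 : Nat.card Hs = 4 := by
        rw [← hHc, hcd] at h4H ⊢
        have := Nat.le_of_dvd (by norm_num) hk2
        have h0 : k ≠ 0 := by
          rintro rfl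
          exact Nat.card_pos.ne' hcd
        omega
      obtain ⟨β, hβ⟩ := exists_over l hs hc
      refine ⟨β, hβ, fun r hr hr2 hrN => ?_⟩
      rw [← hmul, hc4] at hrN
      exact dvd_of_four_mul hr hr2 hrN (Dvd.intro _ rfl)
  · -- subgroups of a Borel subgroup
    exfalso
    have h1 := Cfsg.Agent.H436.TT.index_normalizer p P
    have h2 := Subgroup.index_dvd_of_le hP
    rw [h1] at h2
    obtain ⟨j, hj⟩ := h2
    have h3 : (Fintype.card F + 1) % 2 = 0 := by omega
    have h4 : Hs.index % 2 = 0 := by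
      rw [hj, Nat.mul_mod, h3, zero_mul, Nat.zero_mod]
    omega
  · exact hA4 h
  · exact (hS4 h).elim
  · exfalso
    have hs5 := simple_A5
    exact not_simple hrows him hs hc hao (⊤ : Subgroup H) not_comm_A5
      (Subgroup.topEquiv.trans (e.trans e5))
  · have hKo : Odd (Fintype.card K) := by
      by_contra hcon
      rw [Nat.not_odd_iff_even] at hcon
      have hj0 : j ≠ 0 := by
        rintro rfl
        rw [pow_zero] at hKj
        omega
      have h1 : Even q := by
        rw [← hKj]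
        exact hcon.pow_of_ne_zero hj0
      rw [Nat.even_iff] at h1
      omega
    have hK1 : 1 < Fintype.card K := Fintype.one_lt_card
    have hKo' : Fintype.card K % 2 = 1 := Nat.odd_iff.1 hKo
    by_cases hK3 : Fintype.card K = 3
    · rcases hK with ⟨⟨eK⟩⟩ | ⟨⟨eK⟩⟩
      · obtain ⟨e3⟩ := Cfsg.Agent.S0251.result (F := K) hK3
        exact hA4 ⟨eK.trans e3⟩
      · obtain ⟨e3⟩ := pgl_three hK3
        exact (hS4 ⟨eK.trans e3⟩).elim
    · exfalso
      have hsK := psl_simple (K := K) (by omega)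
      have hna := psl_not_comm (K := K) (by omega) hKo
      rcases hK with ⟨⟨eK⟩⟩ | ⟨⟨eK⟩⟩
      · exact not_simple hrows him hs hc hao (⊤ : Subgroup H) hna
          (Subgroup.topEquiv.trans (e.trans eK))
      · obtain ⟨L, hL, ⟨eL⟩⟩ := exists_psl_normal (e.trans eK)
        exact not_simple hrows him hs hc hao L hna eL

end Cfsg.Agent.H281.Reg
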