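import Cfsg.Agent.H281.Reg.OddKey
import Cfsg.Agent.H525.L2.Cover
import Cfsg.Agent.H525.L2.Ind
import Cfsg.Agent.H670.Reg.Defs

/-!
# `FactOdd` from the rows (helper281, for S4919)
-/

set_option autoImplicit false
set_option linter.unusedSectionVars false

namespace Cfsg.Agent.H281.Reg

open Cfsg Cfsg.Agent.Characters.Core Cfsg.Agent.H525.L2 Matrix
open Cfsg.Agent.H595.Count Cfsg.Agent.H595.Central Cfsg.Agent.H595.Triple
open Cfsg.Agent.H692.Rel (RowsHyp IM2Hyp)

universe u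

theorem factOdd_of (hrows : RowsHyp.{u}) (him : IM2Hyp.{u}) : Cfsg.Agent.H670.Reg.FactOdd.{u} := by
  classical
  intro X _ _ M hM _ F _ _ hodd h7 e θ
  by_contra hcon
  push Not at hcon
  have := Fintype.ofFinite X
  set T := Cfsg.Agent.H672.inertia M (θ : M → ℂ) with hTdef
  have := Fintype.ofFinite T
  have hT : ∀ g : X, g ∈ T ↔ ∀ n : M, (θ : M → ℂ) ⟨g * n * g⁻¹, hM.conj_mem (n : X) n.2 g⟩ =
      (θ : M → ℂ) n := fun g => Cfsg.Agent.H672.mem_inertia_iff
  have hMT : M ≤ T := Cfsg.Agent.H672.le_inertia (isIrr_isClassFunction θ.2)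
  let N : Subgroup T := M.subgroupOf T
  let eN : N ≃* M := Subgroup.subgroupOfEquivOfLe hMT
  let θ' : IrrCharacter N := ⟨(θ : M → ℂ) ∘ eN, isIrr_comp eN.toMonoidHom eN.surjective θ.2⟩
  have hinv : CInv N (θ' : N → ℂ) := by
    intro x n
    exact (hT x).1 x.2 (eN n)
  obtain ⟨Q, hg, hfin, π, l, hs, hc, hl, H⟩ := exists_red N θ' hinv
  -- the degrees
  have hno : ∀ β : IrrCharacter Q, Over π l (β : Q → ℂ) →
      ¬ 2 ∣ T.index * charDegree (β : Q → ℂ) ∧
      ∃ p : ℕ, p.Prime ∧ p ≠ 2 ∧ p ∣ Nat.card (ProjectiveSpecialLinearGroup (Fin 2) F) ∧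
        ¬ p ∣ T.index * charDegree (β : Q → ℂ) := by
    intro β hβ
    obtain ⟨ψ, hψ⟩ := H β hβ
    have hψ' : ∀ m : M, (ψ : T → ℂ) ⟨m, hMT m.2⟩ =
        (charDegree (β : Q → ℂ) : ℂ) * (θ : M → ℂ) m := by
      intro m
      have := hψ ⟨⟨m, hMT m.2⟩, m.2⟩
      rw [(deg_spec β.2).1] at this
      exact this
    obtain ⟨h1, h2, h3⟩ := over_ind M θ.2 T hT hMT ψ.2 (deg_spec β.2).2.ne' hψ'
    refine hcon ⟨_, h1⟩ h3 _ ?_
    have h4 := hψ' 1
    have h5 : (⟨((1 : M) : X), hMT (1 : M).2⟩ : T) = 1 := rfl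
    rw [h5, (deg_spec θ.2).1] at h4
    rw [h4, (deg_spec h1).1] at h2
    have h6 : charDegree (indFun T (ψ : T → ℂ)) =
        T.index * (charDegree (β : Q → ℂ) * charDegree (θ : M → ℂ)) := by exact_mod_cast h2
    rw [mul_assoc]
    exact h6
  -- the image in the quotient
  let ι : T ⧸ N →* X ⧸ M := QuotientGroup.map N M T.subtype (fun x hx => hx)
  have hι : Function.Injective ι := by
    rw [injective_iff_map_eq_one]
    intro y hy
    obtain ⟨t, rfl⟩ := QuotientGroup.mk_surjective y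
    have h1 : ((t : X) : X ⧸ M) = 1 := hy
    have h2 : (t : X) ∈ M := (QuotientGroup.eq_one_iff (t : X)).1 h1
    exact (QuotientGroup.eq_one_iff t).2 h2
  have hHi : ι.range.index = T.index := by
    have h1 : ι.range.comap (QuotientGroup.mk' M) = T := by
      ext x
      constructor
      · rintro ⟨y, hy⟩
        obtain ⟨t, rfl⟩ := QuotientGroup.mk_surjective y
        have h2 : ((t : X) : X ⧸ M) = (x : X ⧸ M) := hy
        have h3 := QuotientGroup.eq.1 h2
        have h4 := T.mul_mem t.2 (hMT h3)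
        rwa [mul_inv_cancel_left] at h4
      · intro hx
        exact ⟨((⟨x, hx⟩ : T) : T ⧸ N), rfl⟩
    rw [← Subgroup.index_comap_of_surjective ι.range (QuotientGroup.mk'_surjective M), h1]
  let ι' : T ⧸ N →* ProjectiveSpecialLinearGroup (Fin 2) F := e.toMonoidHom.comp ι
  have hι' : Function.Injective ι' := e.injective.comp hι
  have hHs : ι'.range.index = T.index := by
    have h1 : ι'.range = ι.range.map e.toMonoidHom := MonoidHom.range_comp _ _
    rw [h1, Subgroup.index_map_of_bijective e.bijective, hHi]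
  have hi : Odd ι'.range.index := by
    obtain ⟨β, hβ⟩ := exists_over l hs hc
    have h1 := (hno β hβ).1
    rw [hHs, ← Nat.not_even_iff_odd, even_iff_two_dvd]
    exact fun h => h1 (h.mul_right _)
  have hao : AO l := by
    intro β hβ
    have h1 := (hno β hβ).1
    rw [← Nat.not_even_iff_odd, even_iff_two_dvd]
    exact fun h => h1 (h.mul_left _)
  obtain ⟨β, hβ, hβp⟩ := key hrows him hodd h7 ι'.range hi (MonoidHom.ofInjective hι') hs hc hao
  obtain ⟨-, p, hp, hp2, hpS, hpn⟩ := hno β hβ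
  exact hpn (hHs ▸ hβp p hp hp2 hpS)

end Cfsg.Agent.H281.Reg
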